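import Mathlib.Algebra.Homology.HomologicalComplexLimits
import Mathlib.Algebra.Homology.Embedding.CochainComplex
import Mathlib.CategoryTheory.Functor.OfSequence

/-! A complex is the sequential colimit of its brutal truncations. -/

universe v u

open CategoryTheory Category Limits HomologicalComplex
open scoped ZeroObject

set_option autoImplicit false
set_option linter.unusedSectionVars false
set_option backward.isDefEq.respectTransparency false

namespace Groth.Agent.CountSum43

variable {C : Type u} [Category.{v} C]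

/-- A cocone over `ℕ` with eventually invertible legs is a colimit. -/
noncomputable def isColimitOfIsoLegs {D : ℕ ⥤ C} (c : Cocone D) (n₀ : ℕ)
    (h : ∀ n, n₀ ≤ n → IsIso (c.ι.app n)) : IsColimit c :=
  have := h n₀ le_rfl
  { desc := fun s => inv (c.ι.app n₀) ≫ s.ι.app n₀
    fac := fun s n => by
      rcases le_total n n₀ with hn | hn
      · rw [← c.w (homOfLE hn), assoc, IsIso.hom_inv_id_assoc, s.w]
      · have := h n hn
        have e : inv (c.ι.app n₀) ≫ D.map (homOfLE hn) = inv (c.ι.app n) := by
          rw [IsIso.inv_comp_eq, ← cancel_mono (c.ι.app n), assoc, IsIso.inv_hom_id, comp_id, c.w]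
        rw [← s.w (homOfLE hn), reassoc_of% e, IsIso.hom_inv_id_assoc]
    uniq := fun s m hm => by rw [← hm n₀, IsIso.inv_hom_id_assoc] }

variable [Abelian C] (K : CochainComplex C ℤ)

/-- The terms of the brutal truncation. -/
noncomputable def cutX (m i : ℤ) : C := if m ≤ i then K.X i else 0

/-- The inclusion of the terms. -/
noncomputable def cutf (m i : ℤ) : cutX K m i ⟶ K.X i :=
  if h : m ≤ i then eqToHom (if_pos h) else 0

lemma isZero_cutX {m i : ℤ} (h : ¬ m ≤ i) : IsZero (cutX K m i) := by
  unfold cutX; rw [if_neg h]; exact isZero_zero C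

lemma isIso_cutf {m i : ℤ} (h : m ≤ i) : IsIso (cutf K m i) := by
  unfold cutf; rw [dif_pos h]; infer_instance

lemma mono_cutf (m i : ℤ) : Mono (cutf K m i) := by
  by_cases h : m ≤ i
  · have := isIso_cutf K h; infer_instance
  · exact ⟨fun _ _ _ => (isZero_cutX K h).eq_of_tgt _ _⟩

/-- The differential. -/
noncomputable def cutd (m i j : ℤ) : cutX K m i ⟶ cutX K m j :=
  if h : m ≤ i ∧ m ≤ j then eqToHom (if_pos h.1) ≫ K.d i j ≫ eqToHom (if_pos h.2).symm else 0

lemma cutd_cutf (m : ℤ) {i j : ℤ} (hij : i + 1 = j) :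
    cutd K m i j ≫ cutf K m j = cutf K m i ≫ K.d i j := by
  by_cases h : m ≤ i
  · have h' : m ≤ j := by omega
    simp [cutd, cutf, h, h']
  · exact (isZero_cutX K h).eq_of_src _ _

/-- The brutal truncation in degrees `≥ m`. -/
noncomputable def cut (m : ℤ) : CochainComplex C ℤ where
  X := cutX K m
  d := cutd K m
  shape i j h := by
    unfold cutd
    split_ifs
    · rw [K.shape i j h]; simp
    · rfl
  d_comp_d' i j k hij hjk := by
    have := mono_cutf K m k
    rw [← cancel_mono (cutf K m k), assoc, cutd_cutf K m hjk, reassoc_of% (cutd_cutf K m hij),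
      K.d_comp_d, comp_zero, zero_comp]

instance (m : ℤ) : (cut K m).IsStrictlyGE m :=
  (CochainComplex.isStrictlyGE_iff _ _).2 fun i hi => isZero_cutX K (by omega)

/-- The inclusion of the brutal truncation. -/
noncomputable def cutι (m : ℤ) : cut K m ⟶ K where
  f := cutf K m
  comm' _ _ hij := (cutd_cutf K m hij).symm

/-- The transition between the terms. -/
noncomputable def cutg {m m' : ℤ} (h : m' ≤ m) (i : ℤ) : cutX K m i ⟶ cutX K m' i :=
  if hi : m ≤ i then eqToHom ((if_pos hi).trans (if_pos (h.trans hi)).symm) else 0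

lemma cutg_cutf {m m' : ℤ} (h : m' ≤ m) (i : ℤ) : cutg K h i ≫ cutf K m' i = cutf K m i := by
  by_cases hi : m ≤ i
  · simp [cutg, cutf, hi, h.trans hi]
  · exact (isZero_cutX K hi).eq_of_src _ _

/-- The transition between brutal truncations. -/
noncomputable def cutMap {m m' : ℤ} (h : m' ≤ m) : cut K m ⟶ cut K m' where
  f := cutg K h
  comm' i j hij := by
    have := mono_cutf K m' j
    change cutg K h i ≫ cutd K m' i j = cutd K m i j ≫ cutg K h j
    rw [← cancel_mono (cutf K m' j), assoc, assoc, cutd_cutf K m' hij, cutg_cutf,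
      cutd_cutf K m hij, reassoc_of% (cutg_cutf K h i)]

lemma cutMap_cutι {m m' : ℤ} (h : m' ≤ m) : cutMap K h ≫ cutι K m' = cutι K m :=
  HomologicalComplex.hom_ext _ _ (cutg_cutf K h)

/-- The sequence of brutal truncations. -/
noncomputable def cutSeq : ℕ ⥤ CochainComplex C ℤ :=
  Functor.ofSequence (X := fun n : ℕ => cut K (-n))
    (fun n => cutMap K (m := -(n : ℤ)) (m' := -((n + 1 : ℕ) : ℤ)) (by omega))

instance (n : ℕ) : ((cutSeq K).obj n).IsStrictlyGE (-n) :=
  inferInstanceAs ((cut K (-n)).IsStrictlyGE _)

/-- The cocone of brutal truncations. -/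
noncomputable def cutCocone : Cocone (cutSeq K) where
  pt := K
  ι := NatTrans.ofSequence (G := (Functor.const ℕ).obj K) (fun n => cutι K (-n)) (fun n => by
    simp only [cutSeq, Functor.ofSequence_map_homOfLE_succ, Functor.const_obj_map]
    exact (cutMap_cutι K _).trans (comp_id _).symm)

/-- A complex is the colimit of its brutal truncations. -/
noncomputable def isColimit_cutCocone : IsColimit (cutCocone K) :=
  isColimitOfEval _ _ fun i => isColimitOfIsoLegs _ (-i).toNat fun n hn => by
    change IsIso (cutf K (-n) i)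
    exact isIso_cutf K (by omega)

end Groth.Agent.CountSum43
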