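import Groth.Agent.CountSum43.Coproducts
import Groth.Agent.CountSum43.Truncation
import Groth.Agent.CohDer42.AcClass
import Groth.Agent.CohDer42.RightDer
import Groth.Agent.CohDer42.RdAdj
import Mathlib.Algebra.Homology.DerivedCategory.DerivabilityStructureInjectives
import Mathlib.CategoryTheory.Triangulated.Triangulated

/-!
# Complexes of acyclic objects compute derived functors commuting with countable sums
-/

universe w w' v v' u u'

open CategoryTheory Category Limits HomologicalComplex Pretriangulated

set_option autoImplicit false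
set_option linter.unusedSectionVars false
set_option linter.style.haveILetI false
set_option backward.isDefEq.respectTransparency false

namespace Groth.Agent.CountSum43

open Groth.Agent.CohDer42

section General

variable {C : Type*} [Category* C] {D : Type*} [Category* D] {J : Type*} [Category* J]
  {G₁ G₂ : C ⥤ D} (β : G₁ ⟶ G₂)

lemma isIso_app_pt {K : J ⥤ C} {c : Cocone K} (hc : IsColimit c)
    [PreservesColimit K G₁] [PreservesColimit K G₂]
    (h : ∀ j, IsIso (β.app (K.obj j))) : IsIso (β.app c.pt) := by
  have : IsIso (Functor.whiskerLeft K β) :=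
    have : ∀ j, IsIso ((Functor.whiskerLeft K β).app j) := h
    NatIso.isIso_of_isIso_app _
  have e : β.app c.pt = ((isColimitOfPreserves G₁ hc).coconePointsIsoOfNatIso
      (isColimitOfPreserves G₂ hc) (asIso (Functor.whiskerLeft K β))).hom :=
    (isColimitOfPreserves G₁ hc).hom_ext fun j => by
      rw [IsColimit.comp_coconePointsIsoOfNatIso_hom]
      exact β.naturality (c.ι.app j)
  rw [e]; infer_instance

lemma preservesColimitsOfShape_mapHC {A : Type*} [Category* A] [Abelian A] {B : Type*} [Category* B]
    [Abelian B] (F : A ⥤ B) [F.Additive] (J : Type*) [Category* J] [HasColimitsOfShape J A]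
    [PreservesColimitsOfShape J F] :
    PreservesColimitsOfShape J (F.mapHomologicalComplex (ComplexShape.up ℤ)) :=
  HomologicalComplex.preservesColimitsOfShape_of_eval _ fun i =>
    show PreservesColimitsOfShape J (HomologicalComplex.eval A (ComplexShape.up ℤ) i ⋙ F) from inferInstance

end General

variable {A : Type u} [Category.{v} A] [Abelian A] [IsGrothendieckAbelian.{v} A] [HasDerivedCategory.{w} A]
  {B : Type u'} [Category.{v} B] [Abelian B] [IsGrothendieckAbelian.{v} B] [HasDerivedCategory.{w'} B]
  (F : A ⥤ B) [F.Additive] [PreservesFiniteLimits F]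

/-- The functor to be derived. -/
noncomputable abbrev Φ : HomotopyCategory A (ComplexShape.up ℤ) ⥤ DerivedCategory B :=
  F.mapHomotopyCategory (ComplexShape.up ℤ) ⋙ DerivedCategory.Qh

/-- Objects without higher derived functors. -/
def Ac : ObjectProperty A := fun X => ∀ i : ℕ, 0 < i → IsZero ((F.rightDerived i).obj X)

lemma ac_h2 (S : ShortComplex A) (hS : S.ShortExact) (h₁ : Ac F S.X₁) (h₂ : Ac F S.X₂) :
    Ac F S.X₃ ∧ (S.map F).ShortExact :=
  ⟨(((acyclic_two_of_three F S hS).1 h₁).2.1 h₂), ((acyclic_two_of_three F S hS).1 h₁).2.2⟩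

lemma ac_biprod {X Y : A} (hX : Ac F X) (hY : Ac F Y) : Ac F (X ⊞ Y) :=
  ((acyclic_two_of_three F (ShortComplex.mk (biprod.inl : X ⟶ X ⊞ Y) biprod.snd biprod.inl_snd)
    (ShortComplex.Splitting.ofHasBinaryBiproduct X Y).shortExact).1 hX).1 hY

lemma ac_of_injective (X : A) [Injective X] : Ac F X := fun i hi => by
  obtain ⟨j, rfl⟩ : ∃ j, i = j + 1 := ⟨i - 1, by omega⟩
  exact Functor.isZero_rightDerived_obj_injective_succ F j X

lemma ac_of_iso {X Y : A} (e : X ≅ Y) (hX : Ac F X) : Ac F Y := fun i hi =>
  (hX i hi).of_iso ((F.rightDerived i).mapIso e.symm)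

variable (RF : DerivedCategory A ⥤ DerivedCategory B)
  (α : Φ F ⟶ DerivedCategory.Qh ⋙ RF)

/-- The complex computes the derived functor. -/
def Good (K : CochainComplex A ℤ) : Prop :=
  IsIso (α.app ((HomotopyCategory.quotient A (ComplexShape.up ℤ)).obj K))

lemma good_of_iso {K L : CochainComplex A ℤ} (e : K ≅ L) (h : Good F RF α L) : Good F RF α K :=
  (NatTrans.isIso_app_iff_of_iso α ((HomotopyCategory.quotient A (ComplexShape.up ℤ)).mapIso e)).2 h

lemma good_of_map {K L : CochainComplex A ℤ} (f : K ⟶ L) [QuasiIso f]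
    (h : IsIso ((Φ F).map ((HomotopyCategory.quotient A (ComplexShape.up ℤ)).map f)))
    (hL : Good F RF α L) : Good F RF α K := by
  let q := HomotopyCategory.quotient A (ComplexShape.up ℤ)
  have hq : IsIso ((DerivedCategory.Qh (C := A)).map (q.map f)) :=
    (NatIso.isIso_map_iff (DerivedCategory.quotientCompQhIso A) f).2 inferInstance
  have := α.naturality (q.map f)
  have hc : IsIso ((Φ F).map (q.map f) ≫ α.app (q.obj L)) := by
    have : IsIso (α.app (q.obj L)) := hL
    infer_instance
  rw [this] at hc
  have : IsIso ((DerivedCategory.Qh ⋙ RF).map (q.map f)) :=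
    inferInstanceAs (IsIso (RF.map ((DerivedCategory.Qh (C := A)).map (q.map f))))
  exact IsIso.of_isIso_comp_right _ ((DerivedCategory.Qh ⋙ RF).map (q.map f))

lemma good_of_map' {K L : CochainComplex A ℤ} (f : K ⟶ L) [QuasiIso f]
    (h : IsIso ((Φ F).map ((HomotopyCategory.quotient A (ComplexShape.up ℤ)).map f)))
    (hK : Good F RF α K) : Good F RF α L := by
  let q := HomotopyCategory.quotient A (ComplexShape.up ℤ)
  have hq : IsIso ((DerivedCategory.Qh (C := A)).map (q.map f)) :=
    (NatIso.isIso_map_iff (DerivedCategory.quotientCompQhIso A) f).2 inferInstance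
  have := α.naturality (q.map f)
  have hc : IsIso (α.app (q.obj K) ≫ (DerivedCategory.Qh ⋙ RF).map (q.map f)) := by
    have : IsIso (α.app (q.obj K)) := hK
    have : IsIso ((DerivedCategory.Qh ⋙ RF).map (q.map f)) :=
      inferInstanceAs (IsIso (RF.map ((DerivedCategory.Qh (C := A)).map (q.map f))))
    infer_instance
  rw [← this] at hc
  exact IsIso.of_isIso_comp_left ((Φ F).map (q.map f)) _

lemma isIso_Φ_map {K L : CochainComplex A ℤ} (f : K ⟶ L)
    [QuasiIso ((F.mapHomologicalComplex (ComplexShape.up ℤ)).map f)] :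
    IsIso ((Φ F).map ((HomotopyCategory.quotient A (ComplexShape.up ℤ)).map f)) :=
  (NatIso.isIso_map_iff (DerivedCategory.quotientCompQhIso B)
    ((F.mapHomologicalComplex (ComplexShape.up ℤ)).map f)).2 inferInstance

variable [RF.IsRightDerivedFunctor α (HomotopyCategory.quasiIso A (ComplexShape.up ℤ))]

lemma good_of_kInjective (I : CochainComplex A ℤ) [hI : I.IsKInjective] : Good F RF α I :=
  Mod48.isIso_unit_of_kInjective RF α RdAdj.enoughKInj I hI

/-- Bounded below complexes of acyclic objects. -/
lemma good_of_isStrictlyGE (K : CochainComplex A ℤ) (a : ℤ) [K.IsStrictlyGE a]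
    (hK : ∀ m, Ac F (K.X m)) : Good F RF α K := by
  obtain ⟨L, f, hf, hL, hLa⟩ := CochainComplex.Plus.modelCategoryQuillen.exists_quasiIso_injective K a
  have : ∀ n, Injective (L.X n) := hL
  have : L.IsKInjective := CochainComplex.isKInjective_of_injective L a
  let M := CochainComplex.mappingCone f
  have : M.IsStrictlyGE (a - 1) := CochainComplex.isStrictlyGE_mappingCone f a a (a - 1)
  have hMX : ∀ n, sat (Ac F) (M.X n) := fun n =>
    Or.inr ⟨_, ac_biprod F (hK (n + 1)) (ac_of_injective F (L.X n)),
      ⟨(HomologicalComplex.homotopyCofiber.XIsoBiprod f n (n + 1) rfl).symm⟩⟩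
  have hT := HomotopyCategory.mappingCone_triangleh_distinguished f
  have hMac : M.Acyclic := by
    refine (HomotopyCategory.quotient_obj_mem_subcategoryAcyclic_iff_acyclic _).1 ?_
    refine ((HomotopyCategory.subcategoryAcyclic A).trW_iff_of_distinguished _ hT).1 ?_
    rw [← HomotopyCategory.quasiIso_eq_trW_subcategoryAcyclic]
    exact (HomotopyCategory.quotient_map_mem_quasiIso_iff _).2
      ((HomologicalComplex.mem_quasiIso_iff _).2 hf)
  have : QuasiIso ((F.mapHomologicalComplex (ComplexShape.up ℤ)).map f) := by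
    rw [← HomologicalComplex.mem_quasiIso_iff, ← HomotopyCategory.quotient_map_mem_quasiIso_iff,
      HomotopyCategory.quasiIso_eq_trW_subcategoryAcyclic]
    refine ((HomotopyCategory.subcategoryAcyclic B).trW_iff_of_distinguished _
      ((F.mapHomotopyCategory (ComplexShape.up ℤ)).map_distinguished _ hT)).2 ?_
    exact (HomotopyCategory.quotient_obj_mem_subcategoryAcyclic_iff_acyclic _).2
      (acyclic_map_of_adapted F (Ac F) (ac_h2 F) M (a - 1) hMac hMX)
  exact good_of_map F RF α f (isIso_Φ_map F f) (good_of_kInjective F RF α L)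

variable [HasColimitsOfShape (Discrete ℕ) (DerivedCategory A)] [PreservesColimitsOfShape (Discrete ℕ) RF]
  [PreservesColimitsOfShape (Discrete ℕ) F]

/-- Countable sums. -/
lemma good_sigma (X : ℕ → CochainComplex A ℤ) [HasColimitsOfShape (Discrete ℕ) A]
    (h : ∀ n, Good F RF α (X n)) : Good F RF α (∐ X) := by
  let q := HomotopyCategory.quotient A (ComplexShape.up ℤ)
  have := preservesColimit_Q (A := A) RdAdj.enoughKInj X
  have := preservesColimitsOfShape_mapHC F (Discrete ℕ)
  have := preservesColimit_Q (A := B) RdAdj.enoughKInj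
    (fun n => (F.mapHomologicalComplex (ComplexShape.up ℤ)).obj (X n))
  have : PreservesColimit (Discrete.functor X ⋙ F.mapHomologicalComplex (ComplexShape.up ℤ))
      (DerivedCategory.Q (C := B)) :=
    preservesColimit_of_iso_diagram _
      (Discrete.natIso (F := Discrete.functor fun n => (F.mapHomologicalComplex (ComplexShape.up ℤ)).obj (X n))
        fun _ => Iso.refl _)
  have : PreservesColimit (Discrete.functor X) (q ⋙ Φ F) :=
    preservesColimit_of_natIso _ (Functor.isoWhiskerLeft (F.mapHomologicalComplex (ComplexShape.up ℤ))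
      (DerivedCategory.quotientCompQhIso B).symm : F.mapHomologicalComplex (ComplexShape.up ℤ) ⋙
        DerivedCategory.Q ≅ q ⋙ Φ F)
  have : PreservesColimit (Discrete.functor X) (q ⋙ DerivedCategory.Qh ⋙ RF) :=
    preservesColimit_of_natIso _ (Functor.isoWhiskerRight (DerivedCategory.quotientCompQhIso A).symm RF :
      DerivedCategory.Q ⋙ RF ≅ q ⋙ DerivedCategory.Qh ⋙ RF)
  exact isIso_app_pt (Functor.whiskerLeft q α) (coproductIsCoproduct X) fun j => h j.as

lemma isZero_rightDerived_sigma (G : A ⥤ B) [G.Additive] [PreservesColimitsOfShape (Discrete ℕ) G]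
    [HasColimitsOfShape (Discrete ℕ) A] (X : ℕ → A) (h : ∀ n, IsZero (G.obj (X n))) :
    IsZero (G.obj (∐ X)) := by
  rw [IsZero.iff_id_eq_zero]
  exact (isColimitOfPreserves G (coproductIsCoproduct X)).hom_ext fun j => (h j.as).eq_of_src _ _

variable (hder : ∀ i : ℕ, PreservesColimitsOfShape (Discrete ℕ) (F.rightDerived i))

include hder in
/-- Complexes of acyclic objects compute the derived functor. -/
theorem good_of_acyclic [HasColimitsOfShape ℕ A] [HasExactColimitsOfShape ℕ A] [HasColimitsOfShape (Discrete ℕ) A]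
    (K : CochainComplex A ℤ) (hK : ∀ m, Ac F (K.X m)) : Good F RF α K := by
  let q := HomotopyCategory.quotient A (ComplexShape.up ℤ)
  let Fs := cutSeq K
  have hFs : ∀ n m, Ac F ((Fs.obj n).X m) := fun n m => by
    by_cases h : (-(n : ℤ)) ≤ m
    · have := isIso_cutf K h
      exact ac_of_iso F (asIso (cutf K (-(n : ℤ)) m)).symm (hK m)
    · exact fun i _ => (F.rightDerived i).map_isZero (isZero_cutX K h)
  let P := ∐ Fs.obj
  have hP : Good F RF α P := good_sigma F RF α Fs.obj fun n =>
    good_of_isStrictlyGE F RF α (Fs.obj n) (-(n : ℤ)) (hFs n)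
  have hPX : ∀ m, Ac F (P.X m) := fun m i hi => by
    have := hder i
    refine IsZero.of_iso (isZero_rightDerived_sigma (F.rightDerived i) (fun n => (Fs.obj n).X m)
      fun n => hFs n m i hi) ((F.rightDerived i).mapIso ?_)
    exact (asIso (sigmaComparison (HomologicalComplex.eval A (ComplexShape.up ℤ) m) Fs.obj)).symm
  have := SeqColim.stable_cochainComplex (C := A)
  have hS := SeqColim.shortExact Fs
  let S := ShortComplex.mk _ _ (SeqColim.oneSub_proj Fs)
  -- a K-injective model of `1 - shift`
  let g : P ⟶ P := S.f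
  obtain ⟨I, r, hI, hr⟩ := RdAdj.enoughKInj P
  have hQr : IsIso ((DerivedCategory.Qh (C := A)).map (q.map r)) :=
    (NatIso.isIso_map_iff (DerivedCategory.quotientCompQhIso A) r).2 inferInstance
  obtain ⟨g₁, hg₁⟩ := (CochainComplex.IsKInjective.Qh_map_bijective (q.obj I) I).2
    (inv ((DerivedCategory.Qh (C := A)).map (q.map r)) ≫ DerivedCategory.Qh.map (q.map g) ≫
      DerivedCategory.Qh.map (q.map r))
  obtain ⟨g', rfl⟩ := q.map_surjective g₁
  have hcomm : q.map g ≫ q.map r = q.map r ≫ q.map g' :=
    (CochainComplex.IsKInjective.Qh_map_bijective (q.obj P) I).1 (by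
      rw [Functor.map_comp, Functor.map_comp]
      exact ((congrArg (DerivedCategory.Qh.map (q.map r) ≫ ·) hg₁).trans
        (IsIso.hom_inv_id_assoc _ _)).symm)
  let J := CochainComplex.mappingCone g'
  let T₁ := CochainComplex.mappingCone.triangleh g
  let T₂ := CochainComplex.mappingCone.triangleh g'
  have hT₁ : T₁ ∈ distTriang _ := HomotopyCategory.mappingCone_triangleh_distinguished g
  have hT₂ : T₂ ∈ distTriang _ := HomotopyCategory.mappingCone_triangleh_distinguished g'
  obtain ⟨c, hc₁, hc₂⟩ := complete_distinguished_triangle_morphism T₁ T₂ hT₁ hT₂ (q.map r) (q.map r) hcomm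
  obtain ⟨c', rfl⟩ : ∃ c' : CochainComplex.mappingCone g ⟶ J, q.map c' = c := q.map_surjective c
  let φ : T₁ ⟶ T₂ := Triangle.homMk _ _ (q.map r) (q.map r) (q.map c') hcomm hc₁ hc₂
  have h3 : IsIso ((DerivedCategory.Qh (C := A)).map (q.map c')) :=
    isIso₃_of_isIso₁₂ ((DerivedCategory.Qh (C := A)).mapTriangle.map φ)
      (Functor.map_distinguished _ _ hT₁) (Functor.map_distinguished _ _ hT₂) hQr hQr
  have : QuasiIso c' := (DerivedCategory.isIso_Q_map_iff_quasiIso A c').1
    ((NatIso.isIso_map_iff (DerivedCategory.quotientCompQhIso A) c').1 h3)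
  have hΦr : IsIso ((Φ F).map (q.map r)) := by
    have : IsIso (α.app (q.obj P)) := hP
    have : IsIso (α.app (q.obj I)) := good_of_kInjective F RF α I
    have : IsIso ((DerivedCategory.Qh ⋙ RF).map (q.map r)) :=
      inferInstanceAs (IsIso (RF.map ((DerivedCategory.Qh (C := A)).map (q.map r))))
    have hc : IsIso (α.app (q.obj P) ≫ (DerivedCategory.Qh ⋙ RF).map (q.map r)) := inferInstance
    rw [← α.naturality] at hc
    exact IsIso.of_isIso_comp_right _ (α.app (q.obj I))
  have hΦc : IsIso ((Φ F).map (q.map c')) :=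
    isIso₃_of_isIso₁₂ ((Φ F).mapTriangle.map φ)
      (Functor.map_distinguished _ _ hT₁) (Functor.map_distinguished _ _ hT₂) hΦr hΦr
  have : J.IsKInjective := (CochainComplex.isKInjective_iff_rightOrthogonal J).2
    (ObjectProperty.ext_of_isTriangulatedClosed₃ _ T₂ hT₂
      (CochainComplex.IsKInjective.rightOrthogonal I) (CochainComplex.IsKInjective.rightOrthogonal I))
  have hM : Good F RF α (CochainComplex.mappingCone g) :=
    good_of_map F RF α c' hΦc (good_of_kInjective F RF α J)
  -- descend along the short exact sequence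
  let d : CochainComplex.mappingCone g ⟶ colimit Fs := CochainComplex.mappingCone.descShortComplex S
  have : QuasiIso d := CochainComplex.mappingCone.quasiIso_descShortComplex hS
  have hFS : (S.map (F.mapHomologicalComplex (ComplexShape.up ℤ))).ShortExact :=
    HomologicalComplex.shortExact_of_degreewise_shortExact _ fun m =>
      (ac_h2 F (S.map (HomologicalComplex.eval A (ComplexShape.up ℤ) m))
        (hS.map_of_exact (HomologicalComplex.eval A (ComplexShape.up ℤ) m)) (hPX m) (hPX m)).2
  have : QuasiIso ((F.mapHomologicalComplex (ComplexShape.up ℤ)).map d) := by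
    have h1 := CochainComplex.mappingCone.mapHomologicalComplexIso_hom_descShortComplex F S
    rw [← h1]
    have := CochainComplex.mappingCone.quasiIso_descShortComplex hFS
    infer_instance
  exact good_of_iso F RF α ((colimit.isColimit Fs).coconePointUniqueUpToIso (isColimit_cutCocone K)).symm
    (good_of_map' F RF α d (isIso_Φ_map F d) hM)

end Groth.Agent.CountSum43
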