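import Groth.Agent.CohDer42.DerProd
import Groth.Agent.CohDer42.SeqColim
import Mathlib.CategoryTheory.Limits.Preserves.Filtered
import Mathlib.CategoryTheory.Category.ULift

/-! Countable coproducts: in the derived category, and preservation by additive functors. -/

universe w v v' u u'

open CategoryTheory Category Limits HomologicalComplex

set_option autoImplicit false
set_option linter.unusedSectionVars false
set_option linter.style.haveILetI false
set_option backward.isDefEq.respectTransparency false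

namespace Groth.Agent.CountSum43

open Groth.Agent.CohDer42

section Q

variable {A : Type u} [Category.{v} A] [Abelian A] [HasDerivedCategory.{w} A]

/-- Coproducts of complexes give coproducts in the derived category. -/
theorem preservesColimit_Q
    (h : ∀ M : CochainComplex A ℤ, ∃ (I : CochainComplex A ℤ) (f : M ⟶ I),
      I.IsKInjective ∧ QuasiIso f) {ι : Type*} (X : ι → CochainComplex A ℤ) [HasCoproduct X] :
    PreservesColimit (Discrete.functor X) (DerivedCategory.Q (C := A)) := by
  have hx : ∀ (T : DerivedCategory A), ∃ J : CochainComplex A ℤ, J.IsKInjective ∧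
      Nonempty (DerivedCategory.Q.obj J ≅ T) := fun T => by
    obtain ⟨I, f, hI, hf⟩ := h (DerivedCategory.Q.objPreimage T)
    exact ⟨I, hI, ⟨(asIso (DerivedCategory.Q.map f)).symm ≪≫
      DerivedCategory.Q.objObjPreimageIso T⟩⟩
  have hu : ∀ (T : DerivedCategory A) (φ : ∀ i, DerivedCategory.Q.obj (X i) ⟶ T),
      ∃! m : DerivedCategory.Q.obj (∐ X) ⟶ T,
        ∀ i, DerivedCategory.Q.map (Sigma.ι X i) ≫ m = φ i := by
    intro T φ
    obtain ⟨J, hJ, ⟨e⟩⟩ := hx T
    choose g hg using fun i => Q_map_surjective_of_isKInjective (φ i ≫ e.inv)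
    refine ⟨DerivedCategory.Q.map (Sigma.desc g) ≫ e.hom, fun i => ?_, fun m hm => ?_⟩
    · rw [← Functor.map_comp_assoc, Sigma.ι_desc, hg, assoc, e.inv_hom_id, comp_id]
    · obtain ⟨f, hf⟩ := Q_map_surjective_of_isKInjective (m ≫ e.inv)
      have : DerivedCategory.Q.map f = DerivedCategory.Q.map (Sigma.desc g) :=
        Q_map_eq_of_forall_sigma fun i => by
          rw [Functor.map_comp, hf, ← assoc, hm, Sigma.ι_desc, hg]
      rw [← this, hf, assoc, e.inv_hom_id, comp_id]
  refine preservesColimit_of_preserves_colimit_cocone (coproductIsCoproduct X)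
    ((isColimitMapCoconeCofanMkEquiv _ _ _).symm ?_)
  exact mkCofanColimit _ (fun s => (hu s.pt s.inj).choose)
    (fun s => (hu s.pt s.inj).choose_spec.1)
    (fun s m hm => (hu s.pt s.inj).choose_spec.2 m hm)

end Q

section Additive

variable {C : Type u} [Category.{v} C] [Abelian C] {D : Type u'} [Category.{v'} D] [Abelian D]
  [HasColimitsOfShape ℕ C] [HasColimitsOfShape (Discrete ℕ) C]

/-- An additive functor preserving sequential colimits preserves countable coproducts. -/
theorem preservesCoproducts_of_sequential (F : C ⥤ D) [F.Additive] [PreservesColimitsOfShape ℕ F] :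
    PreservesColimitsOfShape (Discrete ℕ) F := by
  suffices h : ∀ Fs : ℕ ⥤ C, PreservesColimit (Discrete.functor Fs.obj) F from
    ⟨fun {K} =>
      @preservesColimit_of_iso_diagram _ _ _ _ _ _ (Discrete.functor fun n => K.obj ⟨n⟩) K F
        (Discrete.natIsoFunctor (F := K)).symm
        (h (Functor.ofSequence (X := fun n => K.obj ⟨n⟩) fun n => 0))⟩
  intro Fs
  let X : ℕ → C := Fs.obj
  let S := SeqColim.S Fs
  have hS := isColimitOfPreserves F (SeqColim.isColimit_cS Fs)
  refine preservesColimit_of_preserves_colimit_cocone (coproductIsCoproduct X)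
    ((isColimitMapCoconeCofanMkEquiv _ _ _).symm ?_)
  let k : ∀ (W : D) (_ : ∀ n, F.obj (X n) ⟶ W) (n : ℕ), F.obj (S n) ⟶ W := fun W g =>
    Nat.rec (g 0) (fun n kn => F.map (biprod.fst : S n ⊞ X (n + 1) ⟶ S n) ≫ kn +
      F.map (biprod.snd : S n ⊞ X (n + 1) ⟶ X (n + 1)) ≫ g (n + 1))
  have hk : ∀ W g n, F.map (SeqColim.incl Fs n) ≫ k W g (n + 1) = k W g n := fun W g n => by
    show F.map (biprod.inl : S n ⟶ S n ⊞ X (n + 1)) ≫ (_ + _) = _
    rw [Preadditive.comp_add, ← F.map_comp_assoc, ← F.map_comp_assoc, biprod.inl_fst, biprod.inl_snd,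
      F.map_id, F.map_zero, zero_comp, add_zero, id_comp]
  let c : ∀ (W : D) (_ : ∀ n, F.obj (X n) ⟶ W), Cocone (SeqColim.SF Fs ⋙ F) := fun W g =>
    { pt := W
      ι := NatTrans.ofSequence (G := (Functor.const ℕ).obj W) (k W g) (fun n => by
        simp only [Functor.const_obj_map, Functor.comp_map, SeqColim.SF,
          Functor.ofSequence_map_homOfLE_succ]
        exact (hk W g n).trans (comp_id _).symm) }
  have hfac : ∀ W g n, F.map (SeqColim.j Fs n) ≫ hS.desc (c W g) = k W g n := fun W g n => hS.fac (c W g) n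
  refine mkCofanColimit _ (fun s => hS.desc (c s.pt s.inj)) (fun s n => ?_) (fun s m hm => ?_)
  · show F.map (Sigma.ι X n) ≫ _ = _
    rcases n with _ | n
    · exact hfac s.pt s.inj 0
    · have e : Sigma.ι X (n + 1) = (biprod.inr : X (n + 1) ⟶ S n ⊞ X (n + 1)) ≫ SeqColim.j Fs (n + 1) :=
        (biprod.inr_desc _ _).symm
      rw [e, F.map_comp, assoc]
      refine (congrArg (F.map _ ≫ ·) (hfac s.pt s.inj (n + 1))).trans ?_
      show F.map (biprod.inr : X (n + 1) ⟶ S n ⊞ X (n + 1)) ≫ (_ + _) = _
      rw [Preadditive.comp_add, ← F.map_comp_assoc, ← F.map_comp_assoc, biprod.inr_fst, biprod.inr_snd,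
        F.map_id, F.map_zero, zero_comp, zero_add, id_comp]
  · refine hS.uniq (c s.pt s.inj) m fun n => ?_
    show F.map (SeqColim.j Fs n) ≫ m = k s.pt s.inj n
    induction n with
    | zero => exact hm 0
    | succ n ih =>
      have e : SeqColim.j Fs (n + 1) = (biprod.fst : S n ⊞ X (n + 1) ⟶ S n) ≫ SeqColim.j Fs n +
          (biprod.snd : S n ⊞ X (n + 1) ⟶ X (n + 1)) ≫ Sigma.ι X (n + 1) := biprod.desc_eq
      rw [e, F.map_add, F.map_comp, F.map_comp, Preadditive.add_comp, assoc, assoc, ih]
      exact congrArg (F.map (biprod.fst : S n ⊞ X (n + 1) ⟶ S n) ≫ k s.pt s.inj n + F.map _ ≫ ·) (hm (n + 1))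

end Additive

end Groth.Agent.CountSum43
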